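import Groth.Agent.CohenLib.FSRegular
import Mathlib

/-! Lifting against finite local algebras suffices for formal smoothness at a rational point. -/

set_option autoImplicit false
set_option linter.style.haveILetI false

universe u

open IsLocalRing

namespace ArtLift

variable {k A : Type u} [Field k] [CommRing A] [IsLocalRing A] [Algebra k A]

/-- With residue field `k`, every element is a constant up to the maximal ideal. -/
theorem exists_sub_mem (hres : Function.Surjective (algebraMap k (ResidueField A))) (a : A) :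
    ∃ c : k, a - algebraMap k A c ∈ maximalIdeal A := by
  obtain ⟨c, hc⟩ := hres (residue A a)
  refine ⟨c, ?_⟩
  rw [← residue_eq_zero_iff, map_sub, sub_eq_zero, ← hc]
  rfl

/-- The quotients by powers of the maximal ideal are spanned by finitely many elements. -/
theorem exists_spanning [IsNoetherianRing A] (hres : Function.Surjective (algebraMap k (ResidueField A))) (l : ℕ) :
    ∃ (N : ℕ) (a : Fin N → A), ∀ x : A, ∃ c : Fin N → k, x - ∑ i, c i • a i ∈ maximalIdeal A ^ l := by
  induction l with
  | zero => exact ⟨0, Fin.elim0, fun x => ⟨Fin.elim0, by simp⟩⟩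
  | succ l ih =>
    obtain ⟨N, a, ha⟩ := ih
    obtain ⟨M, b, hb⟩ := Submodule.fg_iff_exists_fin_generating_family.1
      (IsNoetherian.noetherian (maximalIdeal A ^ l))
    refine ⟨N + M, Fin.append a b, fun x => ?_⟩
    obtain ⟨c, hc⟩ := ha x
    have hc' : x - ∑ i, c i • a i ∈ Submodule.span A (Set.range b) := hb.symm ▸ hc
    obtain ⟨e, he⟩ := (Submodule.mem_span_range_iff_exists_fun A).1 hc'
    choose d hd using fun j => exists_sub_mem (k := k) hres (e j)
    refine ⟨Fin.append c d, ?_⟩
    rw [Fin.sum_univ_add]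
    simp only [Fin.append_left, Fin.append_right]
    rw [← sub_sub, ← he, ← Finset.sum_sub_distrib]
    refine Ideal.sum_mem _ fun j _ => ?_
    rw [smul_eq_mul, Algebra.smul_def, ← sub_mul, pow_succ']
    exact Ideal.mul_mem_mul (hd j) (hb ▸ Submodule.subset_span ⟨j, rfl⟩)

/-- Finitely generated algebras whose generators are constants up to nilpotents are finite and local. -/
theorem finite_local {C : Type u} [CommRing C] [Nontrivial C] [Algebra k C] {N : ℕ} (c : Fin N → C)
    (r : Fin N → k) (hc : ∀ i, IsNilpotent (c i - algebraMap k C (r i))) :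
    Module.Finite k (Algebra.adjoin k (Set.range c)) ∧ IsLocalRing (Algebra.adjoin k (Set.range c)) := by
  constructor
  · refine Module.Finite.iff_fg.2 (fg_adjoin_of_finite (Set.finite_range c) ?_)
    rintro _ ⟨i, rfl⟩
    obtain ⟨n, hn⟩ := hc i
    exact ⟨(Polynomial.X - Polynomial.C (r i)) ^ n, (Polynomial.monic_X_sub_C _).pow n, by simp [hn]⟩
  · have key : ∀ x ∈ Algebra.adjoin k (Set.range c), ∃ t : k, IsNilpotent (x - algebraMap k C t) := by
      intro x hx
      induction hx using Algebra.adjoin_induction with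
      | mem x hx => obtain ⟨i, rfl⟩ := hx; exact ⟨r i, hc i⟩
      | algebraMap t => exact ⟨t, by simp⟩
      | add x y _ _ hx hy =>
        obtain ⟨s, hs⟩ := hx
        obtain ⟨t, ht⟩ := hy
        exact ⟨s + t, by
          rw [map_add, show x + y - (algebraMap k C s + algebraMap k C t) =
            (x - algebraMap k C s) + (y - algebraMap k C t) by ring]
          exact (Commute.all _ _).isNilpotent_add hs ht⟩
      | mul x y _ _ hx hy =>
        obtain ⟨s, hs⟩ := hx
        obtain ⟨t, ht⟩ := hy
        exact ⟨s * t, by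
          rw [map_mul, show x * y - algebraMap k C s * algebraMap k C t =
            (x - algebraMap k C s) * y + algebraMap k C s * (y - algebraMap k C t) by ring]
          exact (Commute.all _ _).isNilpotent_add ((Commute.all _ _).isNilpotent_mul_right hs)
            ((Commute.all _ _).isNilpotent_mul_left ht)⟩
    haveI : Nontrivial (Algebra.adjoin k (Set.range c)) :=
      (Subalgebra.val _).toRingHom.domain_nontrivial
    refine IsLocalRing.of_isUnit_or_isUnit_one_sub_self fun x => ?_
    obtain ⟨t, ht⟩ := key x x.2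
    have ht' : IsNilpotent (x - algebraMap k (Algebra.adjoin k (Set.range c)) t) :=
      (IsNilpotent.map_iff (f := (Subalgebra.val (Algebra.adjoin k (Set.range c))).toRingHom)
        Subtype.val_injective).1 ht
    by_cases h0 : t = 0
    · right
      subst h0
      rw [map_zero, sub_zero] at ht'
      exact ht'.isUnit_one_sub
    · left
      have := ht'.isUnit_add_left_of_commute ((IsUnit.mk0 t h0).map (algebraMap k _)) (Commute.all _ _)
      rwa [add_sub_cancel] at this

/-- Lifting against finite local algebras gives lifting against all algebras. -/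
theorem liftsAdic [IsNoetherianRing A] (hres : Function.Surjective (algebraMap k (ResidueField A)))
    (h : ∀ (B' : Type u) [CommRing B'] [IsLocalRing B'] [Algebra k B'] [Module.Finite k B']
        (J : Ideal B'), J ^ 2 = ⊥ → ∀ f : A →ₐ[k] B' ⧸ J,
          ∃ g : A →ₐ[k] B', (Ideal.Quotient.mkₐ k J).comp g = f) : CohenLib.LiftsAdic k A := by
  intro C _ _ J hJ ψ ⟨l, hl⟩
  rcases subsingleton_or_nontrivial C with hC | hC
  · haveI := hC
    haveI : Subsingleton (C ⧸ J) := (Ideal.Quotient.mk_surjective (I := J)).subsingleton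
    exact ⟨{ toFun := fun _ => 0, map_one' := Subsingleton.elim _ _, map_mul' := fun _ _ => Subsingleton.elim _ _,
             map_zero' := rfl, map_add' := fun _ _ => Subsingleton.elim _ _, commutes' := fun _ => Subsingleton.elim _ _ },
      AlgHom.ext fun _ => Subsingleton.elim _ _⟩
  obtain ⟨N, a, ha⟩ := exists_spanning (k := k) hres l
  choose c hc using fun i => Ideal.Quotient.mk_surjective (ψ (a i))
  choose r hr using fun i => exists_sub_mem (k := k) hres (a i)
  have hn : ∀ i, IsNilpotent (c i - algebraMap k C (r i)) := fun i => by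
    refine ⟨l * 2, ?_⟩
    have h1 : (c i - algebraMap k C (r i)) ^ l ∈ J := by
      rw [← Ideal.Quotient.eq_zero_iff_mem, map_pow, map_sub, hc,
        show Ideal.Quotient.mk J (algebraMap k C (r i)) = ψ (algebraMap k A (r i)) by rw [AlgHom.commutes]; rfl,
        ← map_sub, ← map_pow]
      exact hl _ (Ideal.pow_mem_pow (hr i) l)
    have h2 := Ideal.pow_mem_pow h1 2
    rw [hJ, Ideal.mem_bot, ← pow_mul] at h2
    exact h2
  obtain ⟨hfin, hloc⟩ := finite_local c r hn
  haveI := hfin
  haveI := hloc
  set S := Algebra.adjoin k (Set.range c)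
  let J₂ : Ideal S := J.comap S.val
  have hJ₂ : J₂ ^ 2 = ⊥ := by
    rw [eq_bot_iff]
    intro x hx
    have h1 : S.val x ∈ (J ^ 2 : Ideal C) := Ideal.le_comap_pow _ 2 hx
    rw [hJ, Ideal.mem_bot] at h1
    exact Ideal.mem_bot.2 (Subtype.ext h1)
  let ι : (S ⧸ J₂) →ₐ[k] C ⧸ J := Ideal.quotientMapₐ J S.val le_rfl
  have hι : Function.Injective ι := Ideal.quotientMap_injective
  have hmem : ∀ x, ∃ y, ι y = ψ x := fun x => by
    obtain ⟨e, he⟩ := ha x
    refine ⟨Ideal.Quotient.mk J₂ (∑ i, e i • ⟨c i, Algebra.subset_adjoin ⟨i, rfl⟩⟩), ?_⟩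
    show Ideal.Quotient.mk J (S.val _) = _
    rw [sub_eq_zero.1 ((map_sub ψ _ _).symm.trans (hl _ he)), map_sum, map_sum, map_sum]
    refine Finset.sum_congr rfl fun i _ => ?_
    rw [map_smul ψ, map_smul S.val, ← hc i]
    rfl
  choose f hf using hmem
  let f' : A →ₐ[k] S ⧸ J₂ :=
    { toFun := f
      map_one' := hι (by rw [hf, map_one, map_one])
      map_mul' := fun x y => hι (by rw [hf, map_mul, map_mul, hf, hf])
      map_zero' := hι (by rw [hf, map_zero, map_zero])
      map_add' := fun x y => hι (by rw [hf, map_add, map_add, hf, hf])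
      commutes' := fun t => hι (by rw [hf, AlgHom.commutes, AlgHom.commutes]) }
  obtain ⟨g, hg⟩ := h S J₂ hJ₂ f'
  refine ⟨S.val.comp g, AlgHom.ext fun x => ?_⟩
  have h1 : Ideal.Quotient.mk J₂ (g x) = f x := AlgHom.congr_fun hg x
  rw [← hf x, ← h1]
  rfl

/-- Maps to finite local algebras over an algebraically closed field kill a power of the maximal ideal. -/
theorem exists_pow_map_eq_zero [IsAlgClosed k] (hres : Function.Surjective (algebraMap k (ResidueField A)))
    {B : Type u} [CommRing B] [IsLocalRing B] [Algebra k B] [Module.Finite k B] (f : A →ₐ[k] B) :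
    ∃ l : ℕ, ∀ x ∈ maximalIdeal A ^ l, f x = 0 := by
  haveI : IsArtinianRing B := IsArtinianRing.of_finite k B
  obtain ⟨l, hl⟩ := (IsLocalRing.jacobson_eq_maximalIdeal (R := B) ⊥ bot_ne_top) ▸ IsArtinianRing.isNilpotent_jacobson_bot (R := B)
  refine ⟨l, fun x hx => ?_⟩
  have hloc : maximalIdeal A ≤ (maximalIdeal B).comap f := by
    intro a ha
    by_contra hu
    haveI : Algebra.IsAlgebraic k (ResidueField B) := Algebra.IsAlgebraic.of_finite k _
    obtain ⟨t, ht⟩ := (IsAlgClosed.algebraMap_bijective_of_isIntegral (k := k) (K := ResidueField B)).2 (residue B (f a))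
    have ht0 : t ≠ 0 := fun h0 => hu ((residue_eq_zero_iff _).1 (by rw [← ht, h0, map_zero]))
    have h1 : IsUnit (a - algebraMap k A t) := by
      by_contra h2
      have h3 : algebraMap k A t ∈ maximalIdeal A := by simpa using sub_mem ha h2
      exact h3 ((IsUnit.mk0 t ht0).map _)
    have h4 := (h1.map f)
    rw [map_sub, AlgHom.commutes] at h4
    exact (notMem_maximalIdeal.2 h4) ((residue_eq_zero_iff _).1 (by rw [map_sub, ← ht]; exact sub_self _))
  have h1 : f x ∈ maximalIdeal B ^ l := Ideal.le_comap_pow _ l (Ideal.pow_right_mono hloc l hx)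
  rwa [hl] at h1

end ArtLift
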